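import Cfsg.Agent.H752.Two.CoClassesData
import Cfsg.Agent.H593.IMRank

/-!
# `Co1` has at least 68 conjugacy classes (helper752)
-/

set_option autoImplicit false

namespace Cfsg.Agent.H752.CoClasses

open Cfsg Cfsg.Agent.SporadicA Cfsg.Agent.H752.CoInv Cfsg.Agent.CpAutCoOneFive.Mat

theorem inv_of_chk {a b i : ℕ} (h : chk a b = true) (hi : i < tab.length) (ha : a ≤ i) (hb : i < a + b) :
    inv6 ((tab[i].1.map e).prod) = tab[i].2 := by
  rw [inv6_word rep]
  apply eq_of_eqI
  refine List.all_eq_true.1 h tab[i] ?_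
  rw [List.mem_iff_getElem?]
  refine ⟨i - a, ?_⟩
  rw [List.getElem?_take_of_lt (by omega), List.getElem?_drop, show a + (i - a) = i by omega,
    List.getElem?_eq_getElem hi]

theorem inv_tab {i : ℕ} (hi : i < tab.length) : inv6 ((tab[i].1.map e).prod) = tab[i].2 := by
  have h := hi
  rw [tab_length] at h
  rcases lt_or_ge i 8 with h1 | h1
  · exact inv_of_chk chk0 hi (by omega) (by omega)
  rcases lt_or_ge i 16 with h1 | h1
  · exact inv_of_chk chk1 hi (by omega) (by omega)
  rcases lt_or_ge i 24 with h1 | h1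
  · exact inv_of_chk chk2 hi (by omega) (by omega)
  rcases lt_or_ge i 32 with h1 | h1
  · exact inv_of_chk chk3 hi (by omega) (by omega)
  rcases lt_or_ge i 40 with h1 | h1
  · exact inv_of_chk chk4 hi (by omega) (by omega)
  rcases lt_or_ge i 48 with h1 | h1
  · exact inv_of_chk chk5 hi (by omega) (by omega)
  rcases lt_or_ge i 56 with h1 | h1
  · exact inv_of_chk chk6 hi (by omega) (by omega)
  rcases lt_or_ge i 64 with h1 | h1
  · exact inv_of_chk chk7 hi (by omega) (by omega)
  · exact inv_of_chk chk8 hi (by omega) (by omega)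

/-- pairwise non-conjugate elements -/
def rp (i : Fin 68) : Spor.Co1 := QuotientGroup.mk ((tab[(i : ℕ)]'(by rw [tab_length]; exact i.2)).1.map e).prod

theorem rp_inj (i j : Fin 68) (h : IsConj (rp i) (rp j)) : i = j := by
  have hi : (i : ℕ) < tab.length := by rw [tab_length]; exact i.2
  have hj : (j : ℕ) < tab.length := by rw [tab_length]; exact j.2
  have h1 := inv6_of_isConj h
  rw [inv_tab hi, inv_tab hj] at h1
  have h2 := tab_nodup
  rw [List.nodup_iff_injective_getElem] at h2
  have h3 := @h2 ⟨i, by rw [List.length_map]; exact hi⟩ ⟨j, by rw [List.length_map]; exact hj⟩ (by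
    simp only [List.getElem_map]
    exact h1)
  exact Fin.ext (congrArg (fun x : Fin (tab.map Prod.snd).length => (x : ℕ)) h3)

theorem finite_co1 : Finite Spor.Co1 := Nat.finite_of_card_ne_zero (by rw [Cfsg.Agent.S0399.result.2]; norm_num)

/-- **`Co1` has at least 68 conjugacy classes.** -/
theorem card_conjClasses : 68 ≤ Nat.card (ConjClasses Spor.Co1) := by
  have := finite_co1
  have h := Cfsg.Agent.H593.IMRank.card_le_conjClasses rp rp_inj
  rwa [Fintype.card_fin] at h

end Cfsg.Agent.H752.CoClasses
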