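import Cfsg.Agent.H651.Two.Row
import Cfsg.Agent.H651.Two.Count
import Cfsg.Agent.H752.Two.CoClasses
import Cfsg.Agent.H546.MElevenCo
import Cfsg.Agent.H843.IMC.Co1D
import Cfsg.Agent.H813.CoSevenMain
import Cfsg.Agent.H600.AltIM
import Cfsg.Agent.S2069

/-!
# `Co1`: two characters of degree divisible by `p` (helper752)
-/

set_option autoImplicit false

open Cfsg Subgroup

namespace Cfsg.Agent.H752.TwoCoOne

open Cfsg.Agent.H596.OneFacts Cfsg.Agent.H33 Cfsg.Agent.H651.Two
open Cfsg.Agent.H653.Sieve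

universe u

/-- `x` of order `p`, `p² ∤ |C(x)|`, `|C(x)| ≤ p m`: `k(G) ≤ ND p G + p m`. -/
theorem classes_le_card {G : Type u} [Group G] [Finite G] {p : ℕ} [hp : Fact p.Prime] {x : G} (hx : orderOf x = p)
    (hC : ¬ p ^ 2 ∣ Nat.card (centralizer ({x} : Set G))) {m : ℕ}
    (hm : Nat.card (centralizer ({x} : Set G)) ≤ p * m) : Nat.card (ConjClasses G) ≤ ND p G + p * m := by
  classical
  have := Fintype.ofFinite (centralizer ({x} : Set G))
  obtain ⟨z, hz⟩ : ∃ z : centralizer ({x} : Set G), (z : G) = x :=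
    ⟨⟨x, mem_centralizer_singleton_iff.2 rfl⟩, rfl⟩
  have hzo : orderOf z = p := by rw [← Subgroup.orderOf_coe, hz, hx]
  have hzc : ∀ c : centralizer ({x} : Set G), Commute c z := by
    intro c
    apply Subtype.ext
    show (c : G) * z = z * c
    rw [hz]
    exact mem_centralizer_singleton_iff.1 c.2
  have h1 := classes_le_prime hx hC (ι := {c : centralizer ({x} : Set G) // ¬ p ∣ orderOf c}) Subtype.val
    (fun c hc => ⟨⟨c, hc⟩, IsConj.refl _⟩)
  refine h1.trans (Nat.add_le_add_left (Nat.mul_le_mul_left p ?_) _)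
  rw [← Nat.card_eq_fintype_card]
  have h2 : (zpowers z).index ≤ m := by
    have h3 := (zpowers z).card_mul_index
    rw [Nat.card_zpowers, hzo] at h3
    rw [← h3] at hm
    exact Nat.le_of_mul_le_mul_left hm hp.out.pos
  refine le_trans ?_ h2
  refine Nat.card_le_card_of_injective
    (fun c : {c : centralizer ({x} : Set G) // ¬ p ∣ orderOf c} =>
      (QuotientGroup.mk c.1 : centralizer ({x} : Set G) ⧸ zpowers z)) ?_
  rintro ⟨c, hc⟩ ⟨d, hd⟩ hcd
  apply Subtype.ext
  show c = d
  have h4 : c⁻¹ * d ∈ zpowers z := QuotientGroup.eq.1 hcd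
  obtain ⟨k, hk⟩ := mem_zpowers_iff.1 h4
  have h5 : d = c * z ^ k := by rw [hk]; group
  have h6 : Commute c (z ^ k) := (hzc c).zpow_right k
  have h7 : (z ^ k) ^ (orderOf c * orderOf d) = 1 := by
    have h8 : d ^ (orderOf c * orderOf d) = 1 := by rw [mul_comm, pow_mul, pow_orderOf_eq_one, one_pow]
    rw [h5, h6.mul_pow, ← h5, pow_mul c, pow_orderOf_eq_one, one_pow, one_mul] at h8
    exact h8
  have h9 : orderOf (z ^ k) ∣ p := by rw [← hzo]; exact orderOf_dvd_of_mem_zpowers ⟨k, rfl⟩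
  have h10 : orderOf (z ^ k) ∣ orderOf c * orderOf d := orderOf_dvd_of_pow_eq_one h7
  have h11 : orderOf (z ^ k) = 1 := by
    rcases (Nat.dvd_prime hp.out).1 h9 with h | h
    · exact h
    · exfalso
      rw [h] at h10
      rcases (Nat.Prime.dvd_mul hp.out).1 h10 with h | h
      · exact hc h
      · exact hd h
  rw [orderOf_eq_one_iff] at h11
  rw [h5, h11, mul_one]

namespace CoOne

theorem card_co1 : Nat.card Spor.Co1 = 4157776806543360000 := Cfsg.Agent.S0399.result.2

/-- `p = 11` -/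
theorem two_eleven : Two 11 Spor.Co1 := by
  have := H752.CoClasses.finite_co1
  have : Fact (Nat.Prime 11) := ⟨by norm_num⟩
  obtain ⟨x, hx⟩ := exists_prime_orderOf_dvd_card' (G := Spor.Co1) 11 (by rw [card_co1]; norm_num)
  have h1 := H546.MElevenCo.card_cent hx
  have h2 := classes_le_card hx (by
    intro h
    have h3 := h.trans (Subgroup.card_subgroup_dvd_card _)
    rw [card_co1] at h3
    norm_num at h3) (m := 6) h1
  have h3 := H752.CoClasses.card_conjClasses
  refine two_of_lt ?_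
  rw [show Nat.card (Out Spor.Co1) = 1 from S2069.result]
  omega

/-- `p = 7` -/
theorem two_seven : Two 7 Spor.Co1 := by
  have := H752.CoClasses.finite_co1
  have hp : Fact (Nat.Prime 7) := ⟨by norm_num⟩
  obtain ⟨V, hV, ⟨e⟩⟩ := H813.CoSevenMain.cent_seven
  obtain ⟨v, hv⟩ := exists_prime_orderOf_dvd_card' (G := V) 7 (by rw [hV])
  obtain ⟨x, hx⟩ : ∃ x : Spor.Co1, x = (v : Spor.Co1) := ⟨_, rfl⟩
  have hxo : orderOf x = 7 := by rw [hx, Subgroup.orderOf_coe, hv]
  have hxV : zpowers x = V := by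
    refine Subgroup.eq_of_le_of_card_ge (by rw [zpowers_le, hx]; exact v.2) ?_
    rw [Nat.card_zpowers, hxo, hV]
  have hc : centralizer (V : Set Spor.Co1) = centralizer ({x} : Set Spor.Co1) := by
    rw [← hxV]
    exact cent_zpowers x
  rw [hc] at e
  have hA : Nat.card (alternatingGroup (Fin 7)) = 2520 := by
    have h1 := two_mul_nat_card_alternatingGroup (α := Fin 7)
    rw [Nat.card_perm, Nat.card_fin] at h1
    have h2 : Nat.factorial 7 = 5040 := by decide
    omega
  have hC : Nat.card (centralizer ({x} : Set Spor.Co1)) = 17640 := by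
    rw [Nat.card_congr e.toEquiv, Nat.card_prod, hA, Nat.card_congr Multiplicative.toAdd, Nat.card_zmod]
  have h7 : (17640 : ℕ).factorization 7 ≤ 2 := by
    by_contra h
    push Not at h
    have h1 := (hp.out.pow_dvd_iff_le_factorization (by norm_num : (17640 : ℕ) ≠ 0)).2 h
    norm_num at h1
  have h7' : 1 ≤ (2520 : ℕ).factorization 7 :=
    (hp.out.dvd_iff_one_le_factorization (by norm_num)).1 (by norm_num)
  have h7'' : (2520 : ℕ).factorization 7 ≤ 1 := by
    by_contra h
    push Not at h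
    have h1 := (hp.out.pow_dvd_iff_le_factorization (by norm_num : (2520 : ℕ) ≠ 0)).2 h
    norm_num at h1
  have h3 : 3 ≤ ND 7 Spor.Co1 := by
    refine three_le_of_quotient hxo (by norm_num) (by rw [card_co1]; norm_num)
      ((MonoidHom.snd _ _).comp e.toMonoidHom) (Prod.snd_surjective.comp e.surjective) ?_ ?_
    · rw [hC, hA]; omega
    · obtain ⟨θ, hθ⟩ := H600.AltDeg.im_alt (n := 7) (p := 7) (by norm_num) (by rw [hA]; norm_num)
      refine ⟨θ, ?_⟩
      rw [hA]
      have h1 : 1 ≤ (charDegree (θ : alternatingGroup (Fin 7) → ℂ)).factorization 7 :=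
        (hp.out.dvd_iff_one_le_factorization (Cfsg.Agent.Blocks.Basic.charDegree_pos θ.2).ne').1 hθ
      omega
  refine two_of_lt ?_
  rw [show Nat.card (Out Spor.Co1) = 1 from S2069.result]
  omega

end CoOne

/-- **The row `Co1`.** -/
theorem two_co1 {S : Type u} [Group S] (h : Cfsg.Spor.IsoCo1 S) {p : ℕ} [hp : Fact p.Prime]
    (hd : p ∣ Nat.card S) : TwoOr p S := by
  refine twoOr_of h hd fun hd => ?_
  have h0 := prime_mem hp.out (L := [(23, 1), (13, 1), (11, 1), (7, 2), (5, 4), (3, 9), (2, 21)]) (by norm_num)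
    (N := 4157776806543360000) (by decide +kernel) (CoOne.card_co1 ▸ hd)
  simp only [List.map_cons, List.map_nil, List.mem_cons, List.not_mem_nil, or_false] at h0
  rcases h0 with rfl | rfl | rfl | rfl | rfl | rfl | rfl
  · exact two_of_degs H843.IMC.Co1B.hasDeg_276 H843.IMC.Co1B.hasDeg_299 (by norm_num) (by norm_num) (by norm_num)
  · exact two_of_degs H843.IMC.Co1B.hasDeg_299 H843.IMC.Co1D.hasDeg.2 (by norm_num) (by norm_num) (by norm_num)
  · exact CoOne.two_eleven
  · exact CoOne.two_seven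
  · exact two_of_degs H843.IMC.Co1D.hasDeg.1 H843.IMC.Co1D.hasDeg.2 (by norm_num) (by norm_num) (by norm_num)
  · exact two_of_degs H843.IMC.Co1B.hasDeg_276 H843.IMC.Co1D.hasDeg.1 (by norm_num) (by norm_num) (by norm_num)
  · exact two_of_degs H843.IMC.Co1B.hasDeg_276 H843.IMC.Co1D.hasDeg.1 (by norm_num) (by norm_num) (by norm_num)

end Cfsg.Agent.H752.TwoCoOne
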