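import Cfsg.Agent.H752.Two.CoInv
import Cfsg.Agent.CpAutCoOneFive.Mat
import Cfsg.Agent.S0399
import Cfsg.Agent.Co2Type.Mono

/-!
# `Co1` has at least 68 conjugacy classes (helper752)

Words in the letters `CpAutCoOneFive.Mat.e` with pairwise different traces of the powers `1, .., 6`.
-/

set_option autoImplicit false
set_option Elab.async false
set_option maxRecDepth 100000

namespace Cfsg.Agent.H752.CoClasses

open Cfsg Cfsg.Agent.SporadicA Cfsg.Agent.H752.CoInv Cfsg.Agent.CpAutCoOneFive.Mat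

/-- the words and the invariants (traces times 8) -/
def tab : List (List ℕ × List ℤ) := [
  ([0], [32, 32, 32, 32, 192, 32]),
  ([2], [48, -48, 48, -48, 192, -48]),
  ([3], [8, -8, 8, -8, 192, -8]),
  ([4], [0, 0, 48, 0, 0, -48]),
  ([5], [0, -32, 0, 32, 0, -32]),
  ([6], [0, 0, 0, 192, 0, 0]),
  ([8], [0, 16, 0, -16, 0, -32]),
  ([0, 4], [0, 0, 192, 0, 0, 192]),
  ([0, 5], [0, 48, 0, -48, 0, 48]),
  ([0, 6], [0, 0, 0, 32, 0, 0]),
  ([0, 7], [8, 8, 8, 8, 32, 8]),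
  ([1, 3], [0, 32, 0, 32, 0, 32]),
  ([1, 7], [16, 16, 16, 16, 16, 16]),
  ([1, 8], [0, 0, 0, 0, 0, 0]),
  ([2, 7], [8, 8, 8, 8, 8, 8]),
  ([2, 8], [0, -16, 0, -16, 0, -64]),
  ([3, 7], [8, 8, 16, 40, 8, 32]),
  ([3, 8], [8, 24, 16, 24, 32, -48]),
  ([4, 7], [8, -8, 16, -8, 8, 16]),
  ([5, 6], [16, -48, 16, -48, 64, -48]),
  ([6, 6], [0, 192, 0, 192, 0, 192]),
  ([6, 7], [0, 16, 0, 16, 0, 16]),
  ([8, 8], [16, -16, 32, -16, 96, 32]),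
  ([0, 0, 7], [0, 16, 0, -16, 0, 16]),
  ([0, 0, 8], [0, 0, 24, 0, 0, 24]),
  ([0, 1, 7], [8, 24, 8, 24, 8, -24]),
  ([0, 1, 8], [0, 0, 0, -32, 0, 0]),
  ([0, 2, 8], [16, 0, 8, 0, 16, -24]),
  ([0, 4, 8], [8, -8, 32, -8, 8, -32]),
  ([0, 5, 6], [24, -8, 24, -8, 64, -8]),
  ([0, 5, 7], [16, 16, 8, 16, 24, -8]),
  ([0, 7, 1], [8, -8, 8, 24, 8, -8]),
  ([0, 7, 3], [8, 8, 8, -24, 8, 8]),
  ([0, 8, 8], [0, -16, 0, 16, 0, 32]),
  ([1, 1, 5], [0, 0, 0, 0, 0, -192]),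
  ([1, 2, 7], [0, 32, 0, 0, 0, 32]),
  ([1, 3, 6], [0, 0, 0, 0, 0, 48]),
  ([1, 3, 7], [16, 0, 16, 0, 16, 0]),
  ([1, 5, 7], [8, -24, 8, -24, 8, -24]),
  ([1, 6, 5], [0, 0, 0, 0, 0, 192]),
  ([1, 6, 7], [8, 8, 16, 8, 32, 32]),
  ([1, 7, 5], [8, 8, 32, 8, 48, 32]),
  ([1, 7, 6], [8, 24, 8, 24, 8, 24]),
  ([1, 7, 7], [0, 16, 0, -16, 0, 64]),
  ([1, 8, 3], [0, 16, 24, 16, 40, -8]),
  ([2, 2, 7], [0, -16, 0, 48, 0, -64]),
  ([2, 5, 8], [8, 24, 8, -8, 32, 24]),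
  ([2, 7, 5], [0, 0, 0, -64, 0, 0]),
  ([3, 6, 4], [0, -192, 0, 192, 0, -192]),
  ([3, 7, 6], [8, -8, 16, 24, 32, 16]),
  ([3, 8, 6], [16, 16, 32, 48, 16, 64]),
  ([4, 7, 7], [0, 0, 24, 0, 0, -24]),
  ([4, 8, 5], [8, 8, 16, 8, 8, -16]),
  ([5, 7, 6], [0, 32, 0, 32, 0, -64]),
  ([0, 0, 5, 6], [16, 32, 16, 32, 64, 32]),
  ([0, 0, 7, 7], [0, 16, 0, 48, 0, 64]),
  ([0, 1, 8, 8], [16, 0, 32, 32, 16, 0]),
  ([0, 2, 8, 4], [24, 24, 24, 24, 24, -24]),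
  ([0, 3, 3, 8], [16, -16, 16, -16, 16, -16]),
  ([0, 4, 1, 7], [24, 24, 24, 24, 24, 24]),
  ([0, 4, 7, 1], [24, 8, 0, -24, 24, -64]),
  ([0, 6, 7, 4], [8, 40, 32, -24, 8, 64]),
  ([0, 8, 0, 8], [0, 32, 0, -32, 0, 32]),
  ([0, 8, 6, 1], [0, 48, 0, 48, 0, 192]),
  ([1, 2, 1, 7], [16, 32, 16, 64, 16, 32]),
  ([2, 2, 6, 5], [64, 192, 64, 192, 64, 192]),
  ([2, 4, 4, 4], [192, 192, 192, 192, 192, 192]),
  ([2, 7, 8, 8], [16, -16, 64, 48, 16, -64])]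

def eqI : List ℤ → List ℤ → Bool
  | [], [] => true
  | a :: s, b :: t => decide (a = b) && eqI s t
  | _, _ => false

theorem eq_of_eqI : ∀ {s t : List ℤ}, eqI s t = true → s = t
  | [], [], _ => rfl
  | a :: s, b :: t, h => by
    rw [eqI, Bool.and_eq_true] at h
    rw [of_decide_eq_true h.1, eq_of_eqI h.2]
  | [], _ :: _, h => by simp [eqI] at h
  | _ :: _, [], h => by simp [eqI] at h

theorem tab_length : tab.length = 68 := by decide +kernel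

theorem tab_nodup : (tab.map Prod.snd).Nodup := by decide +kernel

def chk (a b : ℕ) : Bool := ((tab.drop a).take b).all fun x => eqI (invW M x.1) x.2

theorem chk0 : chk 0 8 = true := by decide +kernel

theorem chk1 : chk 8 8 = true := by decide +kernel

theorem chk2 : chk 16 8 = true := by decide +kernel

theorem chk3 : chk 24 8 = true := by decide +kernel

theorem chk4 : chk 32 8 = true := by decide +kernel

theorem chk5 : chk 40 8 = true := by decide +kernel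

theorem chk6 : chk 48 8 = true := by decide +kernel

theorem chk7 : chk 56 8 = true := by decide +kernel

theorem chk8 : chk 64 4 = true := by decide +kernel

end Cfsg.Agent.H752.CoClasses
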